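import Groth.Agent.KLoc46.Main
import Groth.Agent.Coh69.AffinePush
import Groth.Agent.Coh69.ExtShift
import Groth.Agent.Crv77.HH
import Mathlib.Algebra.Exact.Basic

/-!
Cohomology in high degrees only depends on a coherent module off a closed subscheme of small
cohomological dimension.
-/

set_option autoImplicit false
set_option linter.unusedSectionVars false
set_option linter.style.haveILetI false
set_option linter.overlappingInstances false
set_option backward.isDefEq.respectTransparency.types false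

noncomputable section

universe u

open CategoryTheory CategoryTheory.Limits AlgebraicGeometry TopologicalSpace CategoryTheory.Abelian

namespace Groth.Agent.CdIso46

open QC70

variable {X : Scheme.{u}}

/-- Functoriality of cohomology without a base ring. -/
def hhMap {M N : X.Modules} (φ : M ⟶ N) (n : ℕ) : Coh.HH X M n →+ Coh.HH X N n where
  toFun x := Ext.comp x (Ext.mk₀ ((Crv77.toAbF X).map φ)) (add_zero n)
  map_zero' := Ext.zero_comp _ _ _ _ _
  map_add' x y := Ext.add_comp x y _ _

theorem subsingleton_hh_of_iso {M N : X.Modules} (e : M ≅ N) (q : ℕ) (h : Subsingleton (Coh.HH X M q)) :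
    Subsingleton (Coh.HH X N q) := by
  refine ⟨fun x y => ?_⟩
  have h' : Subsingleton (Ext.{u} (Crv77.srcObj X) ((Crv77.toAbF X).obj M) q) := h
  have key : ∀ x : Ext.{u} (Crv77.srcObj X) ((Crv77.toAbF X).obj N) q, x = 0 := fun x => by
    rw [← Ext.comp_mk₀_id x, ← (Crv77.toAbF X).map_id, ← e.inv_hom_id, Functor.map_comp,
      ← Crv77.ext_comp_comp, Subsingleton.elim (Ext.comp x (Ext.mk₀ _) (add_zero q)) 0, Ext.zero_comp]
  exact (key x).trans (key y).symm

theorem subsingleton_hh_X₂ {S : ShortComplex X.Modules} (hS : S.ShortExact) (q : ℕ)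
    (h₁ : Subsingleton (Coh.HH X S.X₁ q)) (h₃ : Subsingleton (Coh.HH X S.X₃ q)) :
    Subsingleton (Coh.HH X S.X₂ q) := by
  haveI : Subsingleton (Ext.{u} (Crv77.srcObj X) (Crv77.abComplex S).X₁ q) := h₁
  haveI : Subsingleton (Ext.{u} (Crv77.srcObj X) (Crv77.abComplex S).X₃ q) := h₃
  exact Coh69.ext_subsingleton_X₂ (Crv77.abComplex_shortExact hS) (Crv77.srcObj X) q

theorem preservesFiniteLimits_restrictFunctor {X Y : Scheme.{u}} (f : X ⟶ Y) [IsOpenImmersion f] :
    PreservesFiniteLimits (Scheme.Modules.restrictFunctor f) := by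
  have : PreservesColimitsOfSize.{0, 0} (Scheme.Modules.restrictFunctor f) :=
    (Scheme.Modules.restrictAdjunction f).leftAdjoint_preservesColimits
  have : (Scheme.Modules.restrictFunctor f).PreservesMonomorphisms :=
    ⟨fun φ _ => mono_of_app_injective _ fun U => app_injective_of_mono φ (f ''ᵁ U)⟩
  have := preservesBinaryBiproducts_of_preservesBinaryCoproducts (Scheme.Modules.restrictFunctor f)
  have : (Scheme.Modules.restrictFunctor f).Additive := Functor.additive_of_preservesBinaryBiproducts _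
  have hh := (Scheme.Modules.restrictFunctor f).preservesHomology_of_preservesMonos_and_cokernels
  have := fun {A B : Y.Modules} (φ : A ⟶ B) => Functor.PreservesHomology.preservesKernels (F := Scheme.Modules.restrictFunctor f) φ
  exact Functor.preservesFiniteLimits_of_preservesKernels _

theorem isCoh_restrict {F : X.Modules} (hF : Coh.IsCoh F) (W : X.Opens) : Coh.IsCoh (F.restrict W.ι) :=
  have : F.IsQuasicoherent := hF.1
  have : F.IsFiniteType := hF.2
  QC70.isCoh_of_iso ((Scheme.Modules.restrictFunctorIsoPullback W.ι).app F).symm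
    ⟨QCPull72.isQuasicoherent_pullback W.ι F, QCPull72.isFiniteType_pullback W.ι F⟩

theorem bijective_hhMap_g {S : ShortComplex X.Modules} (hS : S.ShortExact) (n : ℕ)
    (h₀ : Subsingleton (Coh.HH X S.X₁ n)) (h₁ : Subsingleton (Coh.HH X S.X₁ (n + 1))) :
    Function.Bijective (hhMap S.g n) := by
  have e₂ := Crv77.gexact₂.{u} (Crv77.srcObj X) (Crv77.abComplex_shortExact hS) n
  have e₃ := Crv77.gexact₃.{u} (Crv77.srcObj X) (Crv77.abComplex_shortExact hS) n
  refine ⟨(injective_iff_map_eq_zero _).2 fun x hx => ?_, fun y => ?_⟩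
  · obtain ⟨a, ha⟩ := (e₂ x).1 hx
    rw [← ha, Subsingleton.elim (α := Coh.HH X S.X₁ n) a 0]
    exact Ext.zero_comp _ _ _ _ _
  · exact (e₃ y).1 (Subsingleton.elim (α := Coh.HH X S.X₁ (n + 1)) _ _)

theorem bijective_hhMap_f {S : ShortComplex X.Modules} (hS : S.ShortExact) (n : ℕ)
    (h₀ : Subsingleton (Coh.HH X S.X₃ n)) (h₁ : Subsingleton (Coh.HH X S.X₃ (n + 1))) :
    Function.Bijective (hhMap S.f (n + 1)) := by
  have e₁ := Crv77.gexact₁.{u} (Crv77.srcObj X) (Crv77.abComplex_shortExact hS) n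
  have e₂ := Crv77.gexact₂.{u} (Crv77.srcObj X) (Crv77.abComplex_shortExact hS) (n + 1)
  refine ⟨(injective_iff_map_eq_zero _).2 fun x hx => ?_, fun y => ?_⟩
  · obtain ⟨a, ha⟩ := (e₁ x).1 hx
    rw [← ha, Subsingleton.elim (α := Coh.HH X S.X₃ n) a 0]
    exact map_zero _
  · exact (e₂ y).1 (Subsingleton.elim (α := Coh.HH X S.X₃ (n + 1)) _ _)

variable [IsNoetherian X] {Z : Scheme.{u}} (ι : Z ⟶ X) [IsClosedImmersion ι] (k : ℕ)
  (hcd : ∀ G : Z.Modules, Coh.IsQCoh G → ∀ i : ℕ, k + 1 ≤ i → Subsingleton (Coh.HH Z G i))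

include hcd in
theorem subsingleton_HH_of_support {M : X.Modules} (hM : Coh.IsCoh M)
    (hs : CohB1.support M ⊆ Set.range ι) {i : ℕ} (hi : k + 1 ≤ i) :
    Subsingleton (Coh.HH X M i) := by
  obtain ⟨n, hn⟩ := Dev46.exists_iter ι hM hs
  clear hs hM
  induction n generalizing M with
  | zero =>
    haveI := hn.1.1
    haveI := Dev46.isIso_unit ι hn
    have hG := (Dev46.isCoh_pullback ι hn.1).1
    haveI := hG
    obtain ⟨e⟩ := Coh69.nonempty_hh_push ι ((Scheme.Modules.pullback ι).obj M) i
    haveI := hcd _ hG i hi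
    exact subsingleton_hh_of_iso
      (asIso ((Scheme.Modules.pullbackPushforwardAdjunction ι).unit.app M)).symm i
      e.symm.toEquiv.subsingleton
  | succ n ih =>
    obtain ⟨-, A, G, f, p, w, hS, hA, hG⟩ := hn
    exact subsingleton_hh_X₂ hS i (ih hA) (ih hG)

variable {U : X.Opens} (hU : (U : Set X) = (Set.range ι.base)ᶜ)

include hcd hU in
theorem bijective_hhMap {A B : X.Modules} (φ : A ⟶ B) (hA : Coh.IsCoh A) (hB : Coh.IsCoh B)
    [IsIso ((Scheme.Modules.restrictFunctor U.ι).map φ)] {i : ℕ} (hi : k + 1 ≤ i) :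
    Nonempty (Coh.HH X A (i + 1) ≃+ Coh.HH X B (i + 1)) := by
  obtain ⟨h₁, h₂, h₃⟩ := Dev46.prop_image (Q := Dev46.cohP X) φ hA hB
  have hb : ∀ v : (U : Scheme.{u}), Function.Bijective (stalkMapM φ (U.ι v)) := fun v =>
    (bijective_stalkMapM_restrict_iff U.ι φ v).1
      (bijective_stalkMapM_of_isIso ((Scheme.Modules.restrictFunctor U.ι).map φ) v)
  have hoff : ∀ x, x ∉ Set.range ι.base → x ∈ Set.range U.ι := fun x hx => by
    rw [Scheme.Opens.range_ι, hU]
    exact hx
  have hk : CohB1.support (kernel φ) ⊆ Set.range ι.base := by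
    intro x hx
    by_contra hxι
    obtain ⟨v, rfl⟩ := hoff x hxι
    refine hx (subsingleton_of_forall_eq 0 fun e => ?_)
    have key : ∀ c, stalkMapM φ (U.ι v) (stalkMapM (kernel.ι φ) (U.ι v) c) = 0 := fun c => by
      obtain ⟨W, hW, s, rfl⟩ := germM_exist c
      rw [← stalkMapM_comp, kernel.condition, stalkMapM_germ]
      exact (congrArg (germM B W (U.ι v) hW) (by rfl : (0 : kernel φ ⟶ B).app W s = 0)).trans
        (germM_zero hW)
    exact injective_stalkMapM_of_mono (kernel.ι φ) (U.ι v) ((hb v).1 ((key e).trans (key 0).symm))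
  have hc : CohB1.support (cokernel φ) ⊆ Set.range ι.base := by
    intro x hx
    by_contra hxι
    obtain ⟨v, rfl⟩ := hoff x hxι
    exact hx (subsingleton_stalk_cokernel φ _ (hb v).2)
  have b₁ := bijective_hhMap_g (Dev46.shortExact_ker φ) (i + 1)
    (subsingleton_HH_of_support ι k hcd h₁ hk (by omega))
    (subsingleton_HH_of_support ι k hcd h₁ hk (by omega))
  have b₂ := bijective_hhMap_f (Dev46.shortExact_coker φ) i
    (subsingleton_HH_of_support ι k hcd h₃ hc (by omega))
    (subsingleton_HH_of_support ι k hcd h₃ hc (by omega))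
  exact ⟨(AddEquiv.ofBijective _ b₁).trans (AddEquiv.ofBijective _ b₂)⟩

include hcd hU in
theorem nonempty_hhEquiv {F F' : X.Modules} (hF : Coh.IsCoh F) (hF' : Coh.IsCoh F')
    (e : F.restrict U.ι ≅ F'.restrict U.ι) {i : ℕ} (hi : k + 2 ≤ i) :
    Nonempty (Coh.HH X F i ≃+ Coh.HH X F' i) := by
  obtain ⟨i, rfl⟩ : ∃ m, i = m + 1 := ⟨i - 1, by omega⟩
  let j := U.ι
  haveI := preservesFiniteLimits_restrictFunctor j
  let adj := Scheme.Modules.restrictAdjunction j
  let f : F ⟶ (Scheme.Modules.pushforward j).obj ((Scheme.Modules.restrictFunctor j).obj F') :=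
    adj.unit.app F ≫ (Scheme.Modules.pushforward j).map e.hom
  let g : F' ⟶ (Scheme.Modules.pushforward j).obj ((Scheme.Modules.restrictFunctor j).obj F') :=
    adj.unit.app F'
  haveI : Coh.IsQCoh ((Scheme.Modules.restrictFunctor j).obj F') :=
    (isCoh_restrict hF' U).1
  have hq : Coh.IsQCoh ((Scheme.Modules.pushforward j).obj ((Scheme.Modules.restrictFunctor j).obj F')) :=
    QCqs72.isQuasicoherent_pushforward (M := (Scheme.Modules.restrictFunctor j).obj F') j
  have hb : Coh.IsCoh (F ⊞ F') :=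
    QC70.isCoh_X₂ _ (ShortComplex.Splitting.ofHasBinaryBiproduct F F').shortExact hF hF'
  let eP := IsLimit.conePointUniqueUpToIso (kernelIsKernel (biprod.desc f (-g)))
      (Abelian.PullbackToBiproductIsKernel.isLimitPullbackToBiproduct f g)
  have hP : Coh.IsCoh (pullback f g) := QC70.isCoh_of_iso eP (QC70.isCoh_kernel _ hb hq)
  have hg : IsIso ((Scheme.Modules.restrictFunctor j).map g) := KLoc46.isIso_map_unit j F'
  have hf : IsIso ((Scheme.Modules.restrictFunctor j).map f) := by
    haveI := KLoc46.isIso_map_unit j F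
    rw [Functor.map_comp]
    infer_instance
  have hsq := (IsPullback.of_hasPullback f g).map (Scheme.Modules.restrictFunctor j)
  haveI : IsIso ((Scheme.Modules.restrictFunctor j).map (pullback.fst f g)) := hsq.isIso_fst_of_isIso
  haveI : IsIso ((Scheme.Modules.restrictFunctor j).map (pullback.snd f g)) := hsq.isIso_snd_of_isIso
  obtain ⟨e₁⟩ := bijective_hhMap ι k hcd hU (pullback.fst f g) hP hF (i := i) (by omega)
  obtain ⟨e₂⟩ := bijective_hhMap ι k hcd hU (pullback.snd f g) hP hF' (i := i) (by omega)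
  exact ⟨e₁.symm.trans e₂⟩

end Groth.Agent.CdIso46
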